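/-
Project H33 (S3139): the model 2-group `M p`, elements `δ^d z^z t^c s^e u^i q^j w^k`.
-/
import Cfsg.Agent.Even.Amb2

set_option autoImplicit false

namespace CL.H33

/-- Type of the model: `big` = `δ` is present, `ws` = `s` is present, `w s w = δ^al z^ep t^al s`. -/
structure Ty where
  big : Bool
  ws : Bool
  al : Bool
  ep : Bool
  deriving DecidableEq

instance Ty.decF (P : Ty → Prop) [DecidablePred P] : Decidable (∀ p, P p) :=
  decidable_of_iff (∀ a b c d, P ⟨a, b, c, d⟩) ⟨fun h p => h _ _ _ _, fun h _ _ _ _ => h _⟩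

/-- `δ^d z^z t^c s^e u^i q^j w^k` -/
@[ext] structure M (p : Ty) where
  d : Bool
  z : Bool
  c : Bool
  e : Bool
  i : Bool
  j : Bool
  k : Bool
  ok : ((!d || p.big) && (!e || p.ws)) = true

namespace M
variable {p : Ty}

instance : DecidableEq (M p) := fun x y =>
  decidable_of_iff ((x.d == y.d && x.z == y.z && x.c == y.c && x.e == y.e && x.i == y.i && x.j == y.j && x.k == y.k) = true)
    (by rw [M.ext_iff]; simp [and_assoc])

/-- constructor without side condition -/
def mk' (p : Ty) (d z c e i j k : Bool) : M p :=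
  ⟨d && p.big, z, c, e && p.ws, i, j, k, by cases d <;> cases e <;> cases p.big <;> cases p.ws <;> rfl⟩

theorem mk'_eta (x : M p) : mk' p x.d x.z x.c x.e x.i x.j x.k = x := by
  obtain ⟨d, z, c, e, i, j, k, h⟩ := x
  refine M.ext ?_ rfl rfl ?_ rfl rfl rfl <;> simp only [mk'] <;> revert h <;>
    cases d <;> cases e <;> cases p.big <;> cases p.ws <;> simp

instance decF (P : M p → Prop) [DecidablePred P] : Decidable (∀ x, P x) :=
  decidable_of_iff (∀ d z c e i j k, P (mk' p d z c e i j k)) ⟨fun h x => mk'_eta x ▸ h _ _ _ _ _ _ _, fun h _ _ _ _ _ _ _ => h _⟩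

instance decE (P : M p → Prop) [DecidablePred P] : Decidable (∃ x, P x) :=
  decidable_of_iff (∃ d z c e i j k, P (mk' p d z c e i j k))
    ⟨fun ⟨_, _, _, _, _, _, _, h⟩ => ⟨_, h⟩, fun ⟨x, h⟩ => ⟨_, _, _, _, _, _, _, (mk'_eta x).symm ▸ h⟩⟩

instance : Fintype (M p) :=
  Fintype.ofSurjective (fun v : Bool × Bool × Bool × Bool × Bool × Bool × Bool =>
    mk' p v.1 v.2.1 v.2.2.1 v.2.2.2.1 v.2.2.2.2.1 v.2.2.2.2.2.1 v.2.2.2.2.2.2)
    fun x => ⟨(x.d, x.z, x.c, x.e, x.i, x.j, x.k), mk'_eta x⟩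

private theorem ok1 : ∀ a b c d e f : Bool, ((!a || e) && (!b || f)) = true → ((!c || e) && (!d || f)) = true →
    ((!(a ^^ c) || e) && (!(b ^^ d) || f)) = true := by decide
private theorem ok2 : ∀ a b e f g : Bool, ((!a || e) && (!b || f)) = true →
    ((!(a ^^ (b && (g && e))) || e) && (!b || f)) = true := by decide

/-- conjugation by `w` -/
def sg (y : M p) : M p :=
  ⟨y.d ^^ (y.e && (p.al && p.big)),
    y.z ^^ y.d ^^ (y.e && p.ep) ^^ (y.d && y.e && (p.al && p.big)) ^^ y.i ^^ (y.i && y.j),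
    y.c ^^ (y.e && (p.al && p.big)), y.e, y.i ^^ y.j, y.j, y.k, ok2 _ _ _ _ _ y.ok⟩

/-- the product, ignoring the action of `w` -/
def m0 (x y : M p) : M p :=
  ⟨x.d ^^ y.d, x.z ^^ y.z ^^ (x.d && y.d) ^^ (x.e && y.c) ^^ (x.j && y.i) ^^ (x.i && y.i) ^^ (x.j && y.j),
    x.c ^^ y.c, x.e ^^ y.e, x.i ^^ y.i, x.j ^^ y.j, x.k ^^ y.k, ok1 _ _ _ _ _ _ x.ok y.ok⟩

instance : Mul (M p) := ⟨fun x y => m0 x (cond x.k (sg y) y)⟩
instance : One (M p) := ⟨mk' p false false false false false false false⟩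
instance : Inv (M p) := ⟨fun x => let y := x * x; x * (y * (y * y))⟩

theorem mul_def (x y : M p) : x * y = m0 x (cond x.k (sg y) y) := rfl

local instance : Std.Commutative xor := ⟨Bool.xor_comm⟩

theorem m0_assoc (x y v : M p) : m0 (m0 x y) v = m0 x (m0 y v) := by
  refine M.ext ?_ ?_ ?_ ?_ ?_ ?_ ?_ <;>
    simp only [m0, Bool.and_xor_distrib_right, Bool.and_xor_distrib_left] <;> ac_rfl

private theorem sz : ∀ a b d z c e i j d' z' c' e' i' j' : Bool,
    ((z ^^ z' ^^ (d && d') ^^ (e && c') ^^ (j && i') ^^ (i && i') ^^ (j && j')) ^^ (d ^^ d') ^^ ((e ^^ e') && b) ^^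
      ((d ^^ d') && (e ^^ e') && a) ^^ (i ^^ i') ^^ ((i ^^ i') && (j ^^ j'))) =
    ((z ^^ d ^^ (e && b) ^^ (d && e && a) ^^ i ^^ (i && j)) ^^ (z' ^^ d' ^^ (e' && b) ^^ (d' && e' && a) ^^ i' ^^ (i' && j')) ^^
      ((d ^^ (e && a)) && (d' ^^ (e' && a))) ^^ (e && (c' ^^ (e' && a))) ^^ (j && (i' ^^ j')) ^^ ((i ^^ j) && (i' ^^ j')) ^^
      (j && j')) ∧ c = c := by
  decide +kernel

theorem sg_m0 (x y : M p) : sg (m0 x y) = m0 (sg x) (sg y) := by
  refine M.ext ?_ (sz _ _ _ _ x.c _ _ _ _ _ _ _ _ _).1 ?_ rfl ?_ rfl rfl <;>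
    simp only [m0, sg, Bool.and_xor_distrib_right] <;> ac_rfl

theorem sg_sg : ∀ (p : Ty) (x : M p), sg (sg x) = x := by decide +kernel

theorem assoc (x y v : M p) : x * y * v = x * (y * v) := by
  have hk : (x * y).k = (x.k ^^ y.k) := (by intro b; cases b <;> rfl : ∀ b, (m0 x (cond b (sg y) y)).k = (x.k ^^ y.k)) x.k
  rw [mul_def (x * y), hk, mul_def x y, mul_def x, mul_def y]
  cases x.k <;> cases y.k <;> simp [m0_assoc, sg_m0, sg_sg]

private theorem l1 : ∀ (p : Ty) (x : M p), 1 * x = x ∧ x⁻¹ * x = 1 := by decide +kernel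

instance : Group (M p) := Group.ofLeftAxioms assoc (fun x => (l1 p x).1) fun x => (l1 p x).2

/-- generators and named elements -/
def mt (p : Ty) : M p := mk' p false false true false false false false
def mz (p : Ty) : M p := mk' p false true false false false false false
def md (p : Ty) : M p := mk' p true false false false false false false
def ms (p : Ty) : M p := mk' p false false false true false false false
def mu (p : Ty) : M p := mk' p false false false false true false false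
def mq (p : Ty) : M p := mk' p false false false false false true false
def mw (p : Ty) : M p := mk' p false false false false false false true

/-- normal form -/
theorem nf : ∀ (p : Ty) (x : M p), x = cond x.d (md p) 1 * cond x.z (mz p) 1 * cond x.c (mt p) 1 * cond x.e (ms p) 1 *
    cond x.i (mu p) 1 * cond x.j (mq p) 1 * cond x.k (mw p) 1 := by decide +kernel

theorem pow8 : ∀ (p : Ty) (x : M p), x ^ 8 = 1 := by decide +kernel

end M
end CL.H33
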