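/-
Project H33 (S3139, a 2-component of type `L₃(3)`): structures and the steps of the proof as propositions, part 1.
-/
import Cfsg.Agent.H33.Mod

set_option autoImplicit false
set_option linter.unusedSectionVars false
open Cfsg Subgroup CL.Even CL.Grp

namespace CL.H33
open M

universe u v

/-- `γ = δ u`, `w' = w u`, `a = q w`, `y = s δ` or `t s`, `w* = w t^ep`. -/
def mg (p : Ty) : M p := md p * mu p
def mw' (p : Ty) : M p := mw p * mu p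
def ma (p : Ty) : M p := mq p * mw p
def my (p : Ty) : M p := cond p.big (ms p * md p) (mt p * ms p)
def mws (p : Ty) : M p := cond p.ep (mw p * mt p) (mw p)
/-- `⟨t⟩ × D⟨δ⟩` -/
def p0 : Ty := ⟨true, false, false, false⟩
/-- `⟨t⟩ × D` -/
def ps : Ty := ⟨false, false, false, false⟩
/-- change of model (same coordinates) -/
def tr (p : Ty) {p' : Ty} (x : M p') : M p := mk' p x.d x.z x.c x.e x.i x.j x.k

section
variable {p : Ty} (x y : M p)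
theorem mul_k : (x * y).k = (x.k ^^ y.k) := by rw [mul_def]; cases h : x.k <;> simp [m0, sg, h]
theorem mul_e : (x * y).e = (x.e ^^ y.e) := by rw [mul_def]; cases h : x.k <;> simp [m0, sg]
theorem mul_j : (x * y).j = (x.j ^^ y.j) := by rw [mul_def]; cases h : x.k <;> simp [m0, sg]
theorem mul_i : (x * y).i = (x.i ^^ y.i ^^ (x.k && y.j)) := by rw [mul_def]; cases h : x.k <;> simp [m0, sg]
theorem mul_c : (x * y).c = (x.c ^^ y.c ^^ (x.k && y.e && (p.al && p.big))) := by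
  rw [mul_def]; cases h : x.k <;> simp [m0, sg]
theorem mul_d : (x * y).d = (x.d ^^ y.d ^^ (x.k && y.e && (p.al && p.big))) := by
  rw [mul_def]; cases h : x.k <;> simp [m0, sg]
end

/-- The subgroup of the model cut out by a condition. -/
def sub {p : Ty} (f : M p → Prop) (h1 : f 1) (h : ∀ x y, f x → f y → f (x * y)) : Subgroup (M p) where
  carrier := {x | f x}
  one_mem' := h1
  mul_mem' := h _ _
  inv_mem' := fun {x} hx => by
    have e : x⁻¹ = x * (x * (x * (x * (x * (x * x))))) := by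
      refine inv_eq_of_mul_eq_one_right ?_
      rw [← pow8 p x]; simp only [pow_succ, pow_zero, one_mul, mul_assoc]
    rw [e]; exact h _ _ hx (h _ _ hx (h _ _ hx (h _ _ hx (h _ _ hx (h _ _ hx hx)))))

theorem one_coord (p : Ty) : (1 : M p).d = false ∧ (1 : M p).c = false ∧ (1 : M p).e = false ∧ (1 : M p).i = false ∧
    (1 : M p).j = false ∧ (1 : M p).k = false := ⟨rfl, rfl, rfl, rfl, rfl, rfl⟩

local macro "sub_tac" : tactic =>
  `(tactic| (intro x y hx hy; simp_all [mul_k, mul_e, mul_j, mul_i, mul_c, mul_d]))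

/-- `S = ⟨t, δ, u, q, w⟩` -/
def sS (p : Ty) : Subgroup (M p) := sub (fun x => x.e = false) rfl (by sub_tac)
/-- `R₁ = ⟨t, s, δ, u, q⟩` -/
def sR (p : Ty) : Subgroup (M p) := sub (fun x => x.k = false) rfl (by sub_tac)
/-- `P = ⟨t, s, δ, z⟩` -/
def sP (p : Ty) : Subgroup (M p) := sub (fun x => x.k = false ∧ x.i = false ∧ x.j = false) ⟨rfl, rfl, rfl⟩ (by sub_tac)
/-- `Q = ⟨u, q⟩` -/
def sQ (p : Ty) : Subgroup (M p) :=
  sub (fun x => x.k = false ∧ x.e = false ∧ x.c = false ∧ x.d = false) ⟨rfl, rfl, rfl, rfl⟩ (by sub_tac)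
/-- `Q Z₀ = ⟨s, u, q⟩` -/
def sQ0 (p : Ty) : Subgroup (M p) := sub (fun x => x.k = false ∧ x.c = false ∧ x.d = false) ⟨rfl, rfl, rfl⟩ (by sub_tac)
/-- `Q Z₁ = ⟨s, δ, u, q⟩` -/
def sQ1 (p : Ty) : Subgroup (M p) := sub (fun x => x.k = false ∧ x.c = false) ⟨rfl, rfl⟩ (by sub_tac)
/-- `Q Δ = ⟨δ, u, q⟩` -/
def sQd (p : Ty) : Subgroup (M p) := sub (fun x => x.k = false ∧ x.c = false ∧ x.e = false) ⟨rfl, rfl, rfl⟩ (by sub_tac)
/-- `Z₀ = ⟨s, z⟩` -/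
def sZ0 (p : Ty) : Subgroup (M p) :=
  sub (fun x => x.k = false ∧ x.c = false ∧ x.d = false ∧ x.i = false ∧ x.j = false) ⟨rfl, rfl, rfl, rfl, rfl⟩ (by sub_tac)
/-- `Z₁ = ⟨s, δ, z⟩` -/
def sZ1 (p : Ty) : Subgroup (M p) :=
  sub (fun x => x.k = false ∧ x.c = false ∧ x.i = false ∧ x.j = false) ⟨rfl, rfl, rfl, rfl⟩ (by sub_tac)
/-- `V = ⟨z, w⟩` -/
def sV (p : Ty) : Subgroup (M p) :=
  sub (fun x => x.e = false ∧ x.c = false ∧ x.d = false ∧ x.i = false ∧ x.j = false) ⟨rfl, rfl, rfl, rfl, rfl⟩ (by sub_tac)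
/-- `E = ⟨t, γ, z, w⟩` (`⟨t, z, w⟩` if `δ` is absent) -/
def sE (p : Ty) : Subgroup (M p) := sub (fun x => x.e = false ∧ x.j = false ∧ x.i = x.d) ⟨rfl, rfl, rfl⟩ (by sub_tac)

/-- Relations defining the model. -/
structure Rel {G : Type u} [Group G] (p : Ty) (t z δ s u q w : G) : Prop where
  zz : z * z = 1
  tt : t * t = 1
  ss : s * s = 1
  ww : w * w = 1
  uu : u * u = z
  qq : q * q = z
  dd : p.big = true → δ * δ = z
  d1 : p.big = false → δ = 1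
  s1 : p.ws = false → s = 1
  qu : q * u = u * q * z
  tz : t * z = z * t
  td : t * δ = δ * t
  tu : t * u = u * t
  tq : t * q = q * t
  tw : t * w = w * t
  st : p.ws = true → s * t = t * s * z
  sd : s * δ = δ * s
  su : s * u = u * s
  sq : s * q = q * s
  du : δ * u = u * δ
  dq : δ * q = q * δ
  wd : w * δ * w = δ⁻¹
  wu : w * u * w = u * z
  wq : w * q * w = u * q
  ws : p.ws = true → w * s * w =
    cond (p.al && p.big) δ 1 * cond p.ep z 1 * cond (p.al && p.big) t 1 * s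

/-- (MK) the model is presented by `Rel`. -/
def MkS : Prop := ∀ (G : Type u) [Group G] (p : Ty) (t z δ s u q w : G), Rel p t z δ s u q w →
  ∃ ι : M p →* G, ι (mt p) = t ∧ ι (mz p) = z ∧ ι (md p) = δ ∧ ι (ms p) = s ∧ ι (mu p) = u ∧ ι (mq p) = q ∧
    ι (mw p) = w ∧ (z ≠ 1 → t ≠ 1 → t ≠ z → Function.Injective ι)

/-- `Aut L₃(3)` with `I = Inn`. -/
structure AM (A : Type) [Group A] (I : Subgroup A) where
  ψ : M p0 →* A
  ρ : A
  ρ0 : A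
  ker : ∀ x, ψ x = 1 ↔ x = 1 ∨ x = mt p0
  syl : IsSylowIn 2 ψ.range ⊤
  nI : I.Normal
  iI : ∀ a b, a ∉ I → b ∉ I → a * b ∈ I
  inn : ∀ x, ψ x ∈ I ↔ x.d = false
  ρI : ρ ∈ I
  ρ0I : ρ0 ∈ I
  ρz : ρ * ψ (mz p0) * ρ⁻¹ = ψ (mw p0)
  ρw : ρ * ψ (mw p0) * ρ⁻¹ = ψ (mz p0 * mw p0)
  ρg : ρ * ψ (mg p0) * ρ⁻¹ = ψ (mg p0)
  ρ3 : ρ ^ 3 = 1
  ρi : (ψ (mw' p0) * ρ) ^ 2 = 1
  ρ0u : ρ0 * ψ (mu p0) * ρ0⁻¹ = ψ (mq p0)
  ρ0q : ρ0 * ψ (mq p0) * ρ0⁻¹ = ψ (mu p0 * mq p0)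
  ρ0d : ρ0 * ψ (md p0) * ρ0⁻¹ = ψ (md p0)
  ρ03 : ρ0 ^ 3 = 1
  ρ0i : (ψ (mw' p0) * ρ0) ^ 2 = 1
  cz : ∀ a, a * ψ (mz p0) = ψ (mz p0) * a → ∃ x, ∃ i : ℕ, a = ψ x * ρ0 ^ i
  cV : ∀ a, a * ψ (mz p0) = ψ (mz p0) * a → a * ψ (mw p0) = ψ (mw p0) * a → ∃ x, x.i = x.d ∧ x.j = false ∧ a = ψ x

abbrev X33 := Matrix.SpecialLinearGroup (Fin 3) (ZMod 3)

/-- (AUT) -/
def AutS : Prop := center X33 = ⊥ ∧ Nat.card X33 = 5616 ∧ ∃ σ : MulAut X33,
  (∀ g : X33, (σ g).1 = (g⁻¹).1.transpose) ∧ σ ∉ (MulAut.conj (G := X33)).range ∧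
    ∀ a : MulAut X33, ∃ g, a = MulAut.conj g ∨ a = MulAut.conj g * σ

/-- (MODEL) -/
def ModS : Prop := MkS.{0} → AutS → Nonempty (AM (MulAut X33) (MulAut.conj (G := X33)).range)

/-- The hypothesis of the theorem. -/
structure LD (G : Type u) [Group G] (A : Type) [Group A] (I : Subgroup A) where
  t : G
  L : Subgroup G
  φ : centralizer ({t} : Set G) →* A
  tt : t * t = 1
  t1 : t ≠ 1
  LH : L ≤ centralizer {t}
  Ln : centralizer {t} ≤ 𝒩(L)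
  LI : ∀ h : centralizer ({t} : Set G), (h : G) ∈ L → φ h ∈ I
  IL : ∀ a ∈ I, ∃ h : centralizer ({t} : Set G), (h : G) ∈ L ∧ φ h = a
  odd : ∀ h : centralizer ({t} : Set G), (h : G) ∈ L → φ h = 1 → Odd (orderOf (h : G))
  φt : ∀ h : centralizer ({t} : Set G), (h : G) = t → φ h = 1
  cyc : ∀ P : Subgroup (centralizer ({t} : Set G)), IsPGroup 2 P → P ≤ φ.ker → IsCyclic P
  ni : ∃ g, g * t * g⁻¹ ≠ t ∧ (g * t * g⁻¹) * t = t * (g * t * g⁻¹)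

/-- (LOAD) -/
def LoadS : Prop := ∀ (G : Type u) [Group G] [Finite G], IsSimpleGroup (generalizedFittingSubgroup G) →
  ¬ IsMulCommutative (generalizedFittingSubgroup G) → ∀ (t : G), orderOf t = 2 →
  ∀ (L : Subgroup (centralizer ({t} : Set G))), IsPComponent 2 L → Nonempty ((L ⧸ oddCore L) ≃* X33) →
  (∀ P : Subgroup (centralizer ({t} : Set G)), IsPGroup 2 P →
    (∀ g ∈ P, ∀ l ∈ L, ∃ o ∈ oddCore L, g * (l : centralizer ({t} : Set G)) * g⁻¹ = l * o) → IsCyclic P) →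
  ∀ a : AM (MulAut X33) (MulAut.conj (G := X33)).range, Nonempty (LD G (MulAut X33) (MulAut.conj (G := X33)).range)

/-- (PSL) -/
def PslS : Prop := ∀ (F : Type v) [Field F] [Fintype F], Fintype.card F = 3 →
  Nonempty (Matrix.ProjectiveSpecialLinearGroup (Fin 3) F ≃* X33)

/-- A Sylow subgroup `S` of `C(t)` adapted to the model. -/
structure PD (G : Type u) [Group G] (A : Type) [Group A] (I : Subgroup A) extends LD G A I where
  a : AM A I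
  S : Subgroup G
  ι : M ps →* G
  inj : Function.Injective ι
  syl : IsSylowIn 2 S (centralizer {t})
  ιt : ι (mt ps) = t
  ιS : ∀ x, ι x ∈ S
  ιL : ∀ x, ι x ∈ L ↔ x.c = false
  SL : ∀ g ∈ S, g ∈ L → ∃ x, ι x = g
  φι : ∀ (h : centralizer ({t} : Set G)) x, (h : G) = ι x → φ h = a.ψ (tr p0 x)
  φS : ∀ h : centralizer ({t} : Set G), (h : G) ∈ S → ∃ x, φ h = a.ψ x

/-- (PD0) -/
def Pd0S : Prop := MkS.{u} → ∀ (G : Type u) [Group G] [Finite G] (A : Type) [Group A] [Finite A] (I : Subgroup A),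
  AM A I → LD G A I → Nonempty (PD G A I)

section
variable {G : Type u} [Group G] {A : Type} [Group A] {I : Subgroup A}

/-- `t ∼ tz` -/
def PD.Tz (D : PD G A I) : Prop := ∃ g, g * D.t * g⁻¹ = D.t * D.ι (mz ps)
/-- the Sylow subgroup of the kernel is `⟨t⟩`, `t` and `z` are not conjugate -/
def PD.R2 (D : PD G A I) : Prop :=
  (∀ h : centralizer ({D.t} : Set G), (h : G) ∈ D.S → D.φ h = 1 → (h : G) = 1 ∨ (h : G) = D.t) ∧
  (∀ g, g * D.t * g⁻¹ ≠ D.ι (mz ps)) ∧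
  ∃ g ∈ 𝒩(D.S), g * D.t * g⁻¹ = D.t * D.ι (mz ps) ∧ g * D.ι (mz ps) * g⁻¹ = D.ι (mz ps)
/-- the model of `S` -/
def PD.Md (D : PD G A I) : Prop := ∃ (b : Bool) (κ : M ⟨b, false, false, false⟩ →* G), Function.Injective κ ∧
  κ.range = D.S ∧ (∀ x : M ps, κ (tr _ x) = D.ι x) ∧
  ∀ (h : centralizer ({D.t} : Set G)) x, (h : G) = κ x → D.φ h = D.a.ψ (tr p0 x)
end

def S1aS : Prop := ∀ (G : Type u) [Group G] [Finite G] (A : Type) [Group A] [Finite A] (I : Subgroup A) (D : PD G A I), D.Tz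
def S1bS : Prop := ∀ (G : Type u) [Group G] [Finite G] (A : Type) [Group A] [Finite A] (I : Subgroup A) (D : PD G A I),
  D.Tz → D.R2
def Hs1S : Prop := MkS.{u} → ∀ (G : Type u) [Group G] [Finite G] (A : Type) [Group A] [Finite A] (I : Subgroup A)
  (D : PD G A I), D.R2 → D.Md

/-- The local data: `ι` is a model of `S` (`ws = false`) or of `S₁` (`ws = true`). -/
structure HD (G : Type u) [Group G] where
  p : Ty
  ι : M p →* G
  O : Subgroup G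
  L : Subgroup G
  ρ : G
  ρ0 : G
  inj : Function.Injective ι
  alb : p.al = true → p.big = true
  oddO : Odd (Nat.card O)
  OL : O ≤ L
  LH : L ≤ centralizer {ι (mt p)}
  On : centralizer {ι (mt p)} ≤ 𝒩(O)
  Ln : centralizer {ι (mt p)} ≤ 𝒩(L)
  sqL : ∀ h ∈ centralizer {ι (mt p)}, h * h ∈ L
  ιL : ∀ x, x.e = false → (ι x ∈ L ↔ x.d = false ∧ x.c = false)
  sylS : IsSylowIn 2 ((sS p).map ι) (centralizer {ι (mt p)})
  syl1 : p.ws = true → IsSylowIn 2 ι.range 𝒩(closure {ι (mt p), ι (mz p)})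
  ρL : ρ ∈ L
  ρ0L : ρ0 ∈ L
  ρz : ρ * ι (mz p) * ρ⁻¹ = ι (mw p)
  ρw : ρ * ι (mw p) * ρ⁻¹ = ι (mz p * mw p)
  ρg : p.big = true → ρ * ι (mg p) * ρ⁻¹ = ι (mg p)
  ρ3 : ρ ^ 3 ∈ O
  ρi : (ι (mw' p) * ρ) ^ 2 ∈ O
  ρ0u : ρ0 * ι (mu p) * ρ0⁻¹ = ι (mq p)
  ρ0q : ρ0 * ι (mq p) * ρ0⁻¹ = ι (mu p * mq p)
  ρ0d : ρ0 * ι (md p) * ρ0⁻¹ = ι (md p)
  ρ0s : ρ0 * ι (ms p) * ρ0⁻¹ = ι (ms p)
  ρ03 : ρ0 ^ 3 ∈ O
  ρ0i : (ι (mw' p) * ρ0) ^ 2 ∈ O
  cz : ∀ h ∈ centralizer {ι (mt p)}, h * ι (mz p) = ι (mz p) * h →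
    ∃ o ∈ O, ∃ x : M p, x.e = false ∧ ∃ i : ℕ, h = o * ι x * ρ0 ^ i
  cV : ∀ h ∈ centralizer {ι (mt p)}, h * ι (mz p) = ι (mz p) * h → h * ι (mw p) = ι (mw p) * h →
    ∃ o ∈ O, ∃ x : M p, x.e = false ∧ x.i = x.d ∧ x.j = false ∧ h = o * ι x
  tz : ∃ g, g * ι (mt p) * g⁻¹ = ι (mt p * mz p) ∧ g * ι (mz p) * g⁻¹ = ι (mz p)
  ntz : ∀ g, g * ι (mt p) * g⁻¹ ≠ ι (mz p)

def Hs2S : Prop := ∀ (G : Type u) [Group G] [Finite G] (A : Type) [Group A] [Finite A] (I : Subgroup A)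
  (D : PD G A I), D.R2 → D.Md → ∃ S : HD G, S.p.ws = false

namespace HD
variable {G : Type u} [Group G] (S : HD G)
abbrev t : G := S.ι (mt S.p)
abbrev z : G := S.ι (mz S.p)
abbrev δ : G := S.ι (md S.p)
abbrev s : G := S.ι (ms S.p)
abbrev u : G := S.ι (mu S.p)
abbrev q : G := S.ι (mq S.p)
abbrev w : G := S.ι (mw S.p)
abbrev γ : G := S.ι (mg S.p)
abbrev w' : G := S.ι (mw' S.p)
abbrev y : G := S.ι (my S.p)
abbrev ws : G := S.ι (mws S.p)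
abbrev H : Subgroup G := centralizer {S.t}
abbrev S0 : Subgroup G := (sS S.p).map S.ι
abbrev S1 : Subgroup G := S.ι.range
abbrev R1 : Subgroup G := (sR S.p).map S.ι
abbrev P : Subgroup G := (sP S.p).map S.ι
abbrev Q : Subgroup G := (sQ S.p).map S.ι
abbrev Q0 : Subgroup G := (sQ0 S.p).map S.ι
abbrev Q1 : Subgroup G := (sQ1 S.p).map S.ι
abbrev Qd : Subgroup G := (sQd S.p).map S.ι
abbrev Z0 : Subgroup G := (sZ0 S.p).map S.ι
abbrev Z1 : Subgroup G := (sZ1 S.p).map S.ι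
abbrev V : Subgroup G := (sV S.p).map S.ι
abbrev E : Subgroup G := (sE S.p).map S.ι

theorem mem_map {K : Subgroup (M S.p)} {x : M S.p} : S.ι x ∈ K.map S.ι ↔ x ∈ K := mem_map_iff_mem S.inj

/-- the relations for the passage from `S` to `S₁` -/
structure Pre (s : G) (al ep : Bool) : Prop where
  alb : al = true → S.p.big = true
  ss : s * s = 1
  st : s * S.t = S.t * s * S.z
  sd : s * S.δ = S.δ * s
  su : s * S.u = S.u * s
  sq : s * S.q = S.q * s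
  ws : S.w * s * S.w = cond al S.δ 1 * cond ep S.z 1 * cond al S.t 1 * s

/-- the normaliser of `E` -/
def Ne : Prop := (∀ h ∈ S.H, h ∈ 𝒩(S.E) → h * S.γ * h⁻¹ = S.γ ∧ h ∈ 𝒩(S.V)) ∧
  ∀ g, g * S.t * g⁻¹ ∈ S.E → ∃ n ∈ 𝒩(S.E), n * S.t * n⁻¹ = g * S.t * g⁻¹

/-- `C(Q)` is not modular of order 16 -/
def Nm : Prop := ∀ g, g * S.t * g⁻¹ = S.t * S.z → g * S.z * g⁻¹ = S.z → g * S.γ * g⁻¹ = S.γ →
  g * S.w * g⁻¹ ≠ S.w * S.δ ∧ g * S.w * g⁻¹ ≠ S.w * S.δ⁻¹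
end HD

def NeS : Prop := ∀ (G : Type u) [Group G] [Finite G] (S : HD G), S.p.big = true → S.Ne
def NmS : Prop := ∀ (G : Type u) [Group G] [Finite G] (S : HD G), S.p.big = true → S.Ne → S.Nm
def St1S : Prop := ∀ (G : Type u) [Group G] [Finite G], (∀ S : HD G, S.p.big = true → S.Nm) →
  ∀ S : HD G, S.p.ws = false → ∃ S' : HD G, S'.p.ws = false ∧ ∃ s al ep, S'.Pre s al ep
def St2S : Prop := MkS.{u} → ∀ (G : Type u) [Group G] [Finite G] (S : HD G), S.p.ws = false →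
  ∀ s al ep, S.Pre s al ep → ∃ S' : HD G, S'.p.ws = true

end CL.H33
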