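/-
Project H33, step (AUT), (PSL): the automorphism group of `SL₃(3)`.
-/
import Cfsg.Agent.H33.Defs
import Cfsg.Agent.Known.GLAut3

set_option autoImplicit false
open Cfsg Subgroup CL.Even CL.Grp

namespace CL.H33

universe u v

open CL.GLn

theorem aut_center : center X33 = ⊥ := by
  rw [← Subgroup.card_eq_one, CL.SLn.card_center_SL (F := ZMod 3), ZMod.card]; rfl

theorem aut_card : Nat.card X33 = 5616 := by
  have := CL.SLn.card_SL_three (F := ZMod 3)
  rw [ZMod.card] at this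
  exact this

theorem aut_qinj {G : Type*} [Group G] (h : center G = ⊥) : Function.Injective (qAut G) := by
  intro a b hab
  ext x
  have h1 : qAut G a (x : G ⧸ center G) = qAut G b (x : G ⧸ center G) := by rw [hab]
  rw [qAut_mk, qAut_mk, QuotientGroup.eq, h, mem_bot] at h1
  exact inv_mul_eq_one.1 h1

theorem aut_diag (g : GL (Fin 3) (ZMod 3)) : ∃ s : X33, slConj (Fin 3) (ZMod 3) g = MulAut.conj s := by
  have hd : ∀ c : ZMod 3, c ≠ 0 → c ^ 3 * c = 1 ∧ c * c = 1 := by decide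
  have h0 : (g : Matrix (Fin 3) (Fin 3) (ZMod 3)).det ≠ 0 := (Matrix.isUnit_iff_isUnit_det _ |>.1 g.isUnit).ne_zero
  obtain ⟨h1, h2⟩ := hd _ h0
  set c := (g : Matrix (Fin 3) (Fin 3) (ZMod 3)).det with hc
  let s : X33 := ⟨c • (g : Matrix (Fin 3) (Fin 3) (ZMod 3)), by
    rw [Matrix.det_smul, Fintype.card_fin, ← hc, h1]⟩
  refine ⟨s, ?_⟩
  refine MulEquiv.ext fun x => ?_
  rw [MulAut.conj_apply, eq_mul_inv_iff_mul_eq]
  apply Subtype.ext
  change ((g : Matrix (Fin 3) (Fin 3) (ZMod 3)) * x.1 * ((g⁻¹ : GL (Fin 3) (ZMod 3)) : Matrix (Fin 3) (Fin 3) (ZMod 3))) *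
    (c • (g : Matrix (Fin 3) (Fin 3) (ZMod 3))) = (c • (g : Matrix (Fin 3) (Fin 3) (ZMod 3))) * x.1
  rw [Matrix.mul_smul, Matrix.smul_mul, mul_assoc, ← Units.val_mul, inv_mul_cancel, Units.val_one, mul_one]

theorem aut_field (σ : ZMod 3 ≃+* ZMod 3) : σ = 1 := by
  ext x
  exact RingHom.congr_fun (Subsingleton.elim (σ : ZMod 3 →+* ZMod 3) (RingHom.id _)) x

theorem aut : AutS := by
  refine ⟨aut_center, aut_card, slGraph (Fin 3) (ZMod 3), fun g => rfl, ?_, fun a => ?_⟩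
  · rintro ⟨g, hg⟩
    refine fieldAut_mul_graphAut_ne_diagAut (n := Fin 3) (F := ZMod 3) (by simp)
      (Matrix.SpecialLinearGroup.toGL g) 1 ?_
    rw [map_one, one_mul, graphAut, ← hg]
    change _ = qAut _ (slConj (Fin 3) (ZMod 3) (Matrix.SpecialLinearGroup.toGL g))
    refine congrArg (qAut _) ?_
    refine MulEquiv.ext fun x => Matrix.SpecialLinearGroup.toGL_injective ?_
    rw [toGL_slConj, MulAut.conj_apply, map_mul, map_mul, map_inv]
  · obtain ⟨g, σ, h⟩ := aut_psl_fin (F := ZMod 3) (m := 3) (by norm_num) (qAut _ a)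
    obtain ⟨s, hs⟩ := aut_diag g
    rw [aut_field σ, map_one, mul_one] at h
    refine ⟨s, h.imp (fun h => aut_qinj aut_center ?_) fun h => aut_qinj aut_center ?_⟩
    · rw [← hs]; exact h
    · rw [← hs, map_mul]; exact h.2

theorem psl : PslS.{v} := by
  intro F _ _ hF
  obtain ⟨e⟩ := CL.SLn.nonempty_psl_equiv_of_card_eq (ι := Fin 3) (K := F) (L := ZMod 3) (by rw [hF, ZMod.card])
  exact ⟨e.trans ((QuotientGroup.quotientMulEquivOfEq aut_center).trans QuotientGroup.quotientBot)⟩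

end CL.H33
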