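/-
Project H33 (S3139): the hypothesis of the theorem in working form.
-/
import Cfsg.Agent.H33.Defs
import Cfsg.Agent.Loc.PComp
import Cfsg.Agent.Loc.FStar
import Cfsg.Agent.C2Low.Basic
import Cfsg.Agent.Inv.LenA
import Cfsg.Agent.Cls.SLnCard

set_option autoImplicit false
open Cfsg Subgroup CL.Even CL.Grp CL.Loc

namespace CL.H33

universe u

theorem load_act {H X : Type*} [Group H] [Group X] (L : Subgroup H) [L.Normal] (π : L →* X)
    (hs : Function.Surjective π) (hk : ∀ (h : H) l, π l = 1 → π (MulAut.conjNormal h l) = 1) :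
    ∃ φ : H →* MulAut X, ∀ h l, φ h (π l) = π (MulAut.conjNormal h l) := by
  choose σ hσ using hs
  have key : ∀ (h : H) l, π (MulAut.conjNormal h (σ (π l))) = π (MulAut.conjNormal h l) := fun h l => by
    have := hk h (σ (π l) * l⁻¹) (by rw [map_mul, hσ, map_inv, mul_inv_cancel])
    rwa [map_mul, map_mul, map_inv, map_inv, mul_inv_eq_one] at this
  have inv : ∀ (g h : H) x, g * h = 1 → π (MulAut.conjNormal g (σ (π (MulAut.conjNormal h (σ x))))) = x :=
    fun g h x e => by rw [key, ← MulAut.mul_apply, ← map_mul, e, map_one, MulAut.one_apply, hσ]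
  refine ⟨MonoidHom.mk' (fun h => ⟨⟨fun x => π (MulAut.conjNormal h (σ x)), fun x => π (MulAut.conjNormal h⁻¹ (σ x)),
    fun x => inv _ _ x (inv_mul_cancel h), fun x => inv _ _ x (mul_inv_cancel h)⟩, fun x y => ?_⟩)
    fun g h => MulEquiv.ext fun x => ?_, key⟩
  · show π _ = π _ * π _
    rw [← map_mul, ← map_mul, ← key h (σ x * σ y), map_mul, hσ, hσ]
  · show π _ = π (MulAut.conjNormal g (σ (π _)))
    rw [key, map_mul, MulAut.mul_apply]

theorem load_normal {H : Type*} [Group H] [Finite H] {L : Subgroup H} (hL : IsPComponent 2 L)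
    (hc : ∀ P : Subgroup H, IsPGroup 2 P → (∀ g ∈ P, ∀ l ∈ L, ∃ o ∈ oddCore L, g * l * g⁻¹ = l * o) → IsCyclic P) :
    L.Normal := by
  have h1 := isPComponent_iff.1 hL
  refine normalizer_eq_top_iff.1 (eq_top_iff.2 fun h _ => cj_eq_iff_mem.1 (by_contra fun ne => ?_))
  have h2 := h1.conj_of_mem_norm (g := h) (le_normalizer (mem_top h))
  obtain ⟨P⟩ : Nonempty (Sylow 2 (cj h L)) := inferInstance
  have := hc _ (P.isPGroup'.map (cj h L).subtype) fun g hg l hl => by
    obtain ⟨o, ho, e⟩ := (h1.commutator_le_of_ne h2 (Ne.symm ne)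
      (commutator_mem_commutator (L.inv_mem hl) (map_subtype_le _ hg))).1
    exact ⟨o, ho, by rw [show (o : H) = _ from e, commutatorElement_def]; group⟩
  exact h2.2.not_isSolvable (Inv.Len.isSolvable_of_isCyclic_sylow P
    (isCyclic_of_surjective _ (equivMapOfInjective _ _ (cj h L).subtype_injective).symm.surjective))

theorem load_ni {G : Type u} [Group G] [Finite G] (hF : IsSimpleGroup (generalizedFittingSubgroup G))
    (hF2 : ¬ IsMulCommutative (generalizedFittingSubgroup G)) {t : G} (ht : orderOf t = 2) :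
    ∃ g, g * t * g⁻¹ ≠ t ∧ (g * t * g⁻¹) * t = t * (g * t * g⁻¹) := by
  have hC : 𝒞(generalizedFittingSubgroup G) = ⊥ := by
    rcases (inferInstance : ((𝒞(generalizedFittingSubgroup G)).subgroupOf
      (generalizedFittingSubgroup G)).Normal).eq_bot_or_eq_top with h | h
    · exact le_bot_iff.1 ((le_inf le_rfl centralizer_fstar_le).trans (subgroupOf_eq_bot.1 h).le_bot)
    · exact absurd ⟨⟨fun a b => Subtype.ext (subgroupOf_eq_top.1 h b.2 a a.2)⟩⟩ hF2
  have h1 : (oddCore G).subgroupOf (generalizedFittingSubgroup G) = ⊥ :=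
    C2Low.eq_bot_of_normal_odd hF2 inferInstance (by
      rw [← inf_subgroupOf_right, Nat.card_congr (subgroupOfEquivOfLe inf_le_right).toEquiv]
      exact Odd.of_dvd_nat (Nat.coprime_two_right.1 (pPrimeCore_coprime 2 G)) (card_dvd_of_le inf_le_left))
  have hO : oddCore G = ⊥ := by
    rw [eq_bot_iff, ← hC]
    exact fun x hx y hy => (commute_of_normal_of_disjoint _ _ inferInstance inferInstance
      (subgroupOf_eq_bot.1 h1) x y hx hy).eq.symm
  by_contra hn
  have h2 := center_le_centralizer (generalizedFittingSubgroup G : Set G) (Inv.zstar_mem_center hO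
    ⟨ht, fun g hg => by_contra fun e => hn ⟨g, e, hg.eq.symm⟩⟩)
  rw [hC, mem_bot] at h2
  rw [h2, orderOf_one] at ht
  exact absurd ht (by decide)

theorem load_gen {X : Type} [Group X] (hZ : center X = ⊥) {G : Type u} [Group G] [Finite G]
    (hF : IsSimpleGroup (generalizedFittingSubgroup G)) (hF2 : ¬ IsMulCommutative (generalizedFittingSubgroup G))
    {t : G} (ht : orderOf t = 2) {L : Subgroup (centralizer ({t} : Set G))} (hL : IsPComponent 2 L)
    (e : (L ⧸ oddCore L) ≃* X) (hc : ∀ P : Subgroup (centralizer ({t} : Set G)), IsPGroup 2 P →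
      (∀ g ∈ P, ∀ l ∈ L, ∃ o ∈ oddCore L, g * (l : centralizer ({t} : Set G)) * g⁻¹ = l * o) → IsCyclic P) :
    Nonempty (LD G (MulAut X) (MulAut.conj (G := X)).range) := by
  have := load_normal hL hc
  set π := e.toMonoidHom.comp (QuotientGroup.mk' (oddCore L))
  have hk : ∀ l, π l = 1 ↔ l ∈ oddCore L := fun l => (map_eq_one_iff e e.injective).trans (QuotientGroup.eq_one_iff l)
  have hs : Function.Surjective π := e.surjective.comp (QuotientGroup.mk'_surjective _)
  obtain ⟨φ, hφ⟩ := load_act L π hs fun h l hl =>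
    (hk _).2 ((characteristic_iff_le_comap.1 inferInstance (MulAut.conjNormal h)) ((hk l).1 hl))
  have hm : ∀ {h : centralizer ({t} : Set G)}, (h : G) ∈ L.map (Subgroup.subtype _) ↔ h ∈ L :=
    mem_map_iff_mem (subtype_injective _)
  have hi : ∀ l : L, φ l = MulAut.conj (π l) := fun l => MulEquiv.ext fun x => by
    obtain ⟨y, rfl⟩ := hs x
    rw [hφ, MulAut.conj_apply, ← map_inv, ← map_mul, ← map_mul]
    rfl
  refine ⟨⟨t, L.map (Subgroup.subtype _), φ, by rw [← sq, ← ht, pow_orderOf_eq_one], fun e1 => ?_, map_subtype_le _,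
    le_normalizer_map_subtype L, fun h hh => ⟨_, (hi ⟨h, hm.1 hh⟩).symm⟩, ?_, fun h hh e1 => ?_, fun h hh => ?_,
    fun P hP hP' => hc P hP fun g hg l hl => ?_, load_ni hF hF2 ht⟩⟩
  · rw [e1, orderOf_one] at ht
    exact absurd ht (by decide)
  · rintro _ ⟨x, rfl⟩
    obtain ⟨l, rfl⟩ := hs x
    exact ⟨l, hm.2 l.2, hi l⟩
  · have h1 : π ⟨h, hm.1 hh⟩ ∈ center X := mem_center_iff.2 fun x => by
      have := DFunLike.congr_fun ((hi ⟨h, hm.1 hh⟩).symm.trans e1) x
      exact (mul_inv_eq_iff_eq_mul.1 this).symm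
    rw [hZ, mem_bot, hk] at h1
    have h2 := (Nat.coprime_two_right.1 (pPrimeCore_coprime 2 L)).of_dvd_nat (orderOf_dvd_natCard _ h1)
    rwa [← orderOf_coe, ← orderOf_coe] at h2
  · refine MulEquiv.ext fun x => ?_
    obtain ⟨y, rfl⟩ := hs x
    rw [hφ]
    refine congrArg π (Subtype.ext (Subtype.ext ?_))
    show (h : G) * y * (h : G)⁻¹ = y
    rw [hh, ← mem_centralizer_singleton_iff.1 y.1.2, mul_inv_cancel_right]
  · refine ⟨(⟨l, hl⟩ : L)⁻¹ * MulAut.conjNormal g ⟨l, hl⟩, (hk _).1 ?_, (mul_inv_cancel_left l _).symm⟩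
    rw [map_mul, ← hφ, show φ g = 1 from hP' hg, map_inv, MulAut.one_apply, inv_mul_cancel]

theorem load : LoadS.{u} := fun _ _ _ hF hF2 _ ht _ hL ⟨e⟩ hc _ =>
  load_gen (by rw [← card_eq_one, CL.SLn.card_center_SL]; simp) hF hF2 ht hL e hc

end CL.H33
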