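/-
Project H33 (S3139): the model of `Aut L₃(3)`.
-/
import Cfsg.Agent.H33.Defs

set_option autoImplicit false
open Cfsg Subgroup CL.Even CL.Grp

namespace CL.H33
open M

namespace Modelh

def xz : X33 := ⟨!![2, 0, 0; 0, 2, 0; 0, 0, 1], by decide +kernel⟩
def xw : X33 := ⟨!![1, 0, 0; 0, 2, 0; 0, 0, 2], by decide +kernel⟩
def xu : X33 := ⟨!![0, 2, 0; 1, 0, 0; 0, 0, 1], by decide +kernel⟩
def xq : X33 := ⟨!![1, 2, 0; 2, 2, 0; 0, 0, 1], by decide +kernel⟩
def xr : X33 := ⟨!![0, 0, 1; 1, 0, 0; 0, 1, 0], by decide +kernel⟩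
def xs : X33 := ⟨!![0, 2, 0; 1, 2, 0; 0, 0, 1], by decide +kernel⟩

/-- `z^z u^i q^j w^k` -/
def wd (z i j k : Bool) : X33 := cond z xz 1 * cond i xu 1 * cond j xq 1 * cond k xw 1

theorem blk : ∀ a b c d e : ZMod 3, a * d * e - b * c * e = 1 → ∃ z i j k : Bool, ∃ r : Fin 3,
    !![a, b, 0; c, d, 0; 0, 0, e] = (wd z i j k * xs ^ r.1).1 := by decide +kernel

theorem wd_comm : ∀ z i j k : Bool, ∀ r : Fin 3, wd z i j k * xs ^ r.1 * xw = xw * (wd z i j k * xs ^ r.1) →
    i = false ∧ j = false ∧ r = 0 := by decide +kernel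

theorem wd_one : ∀ x : M p0, x.d = false → wd x.z x.i x.j x.k = 1 → x = 1 ∨ x = mt p0 := by decide +kernel

theorem cent_z {g : X33} (h : g * xz = xz * g) : ∃ z i j k : Bool, ∃ r : Fin 3, g = wd z i j k * xs ^ r.1 := by
  have e : g.1 * xz.1 = xz.1 * g.1 := congrArg Subtype.val h
  have k1 : ∀ a : ZMod 3, a = 2 * a → a = 0 := by decide
  have k2 : ∀ a : ZMod 3, a * 2 = a → a = 0 := by decide
  have e02 := k1 (g.1 0 2) (by simpa [xz, Matrix.mul_apply, Fin.sum_univ_three] using congrFun (congrFun e 0) 2)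
  have e12 := k1 (g.1 1 2) (by simpa [xz, Matrix.mul_apply, Fin.sum_univ_three] using congrFun (congrFun e 1) 2)
  have e20 := k2 (g.1 2 0) (by simpa [xz, Matrix.mul_apply, Fin.sum_univ_three] using congrFun (congrFun e 2) 0)
  have e21 := k2 (g.1 2 1) (by simpa [xz, Matrix.mul_apply, Fin.sum_univ_three] using congrFun (congrFun e 2) 1)
  have hd := g.2
  rw [Matrix.det_fin_three, e02, e12, e20, e21] at hd
  obtain ⟨z, i, j, k, r, h1⟩ := blk (g.1 0 0) (g.1 0 1) (g.1 1 0) (g.1 1 1) (g.1 2 2) (by simpa using hd)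
  refine ⟨z, i, j, k, r, Subtype.ext (Eq.trans ?_ h1)⟩
  rw [← e02]
  nth_rewrite 2 [e02, e02, e02]
  rw [← e12]
  nth_rewrite 2 [e12, e12]
  rw [← e20]
  nth_rewrite 2 [e20]
  rw [← e21]
  exact Matrix.eta_fin_three _

theorem card_M : Nat.card (M p0) = 64 := by
  rw [Nat.card_eq_fintype_card]; decide +kernel

local notation "c" => MulAut.conj (G := X33)

variable {σ : MulAut X33} (hσ : ∀ g : X33, (σ g).1 = (g⁻¹).1.transpose)
include hσ

theorem sig_eq {g h : X33} (e : h.1.transpose * g.1 = 1) : σ g = h := by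
  have h1 : g.1 * (g⁻¹).1 = 1 := congrArg Subtype.val (mul_inv_cancel g)
  refine Subtype.ext ?_
  rw [hσ, ← one_mul (g⁻¹).1, ← e, mul_assoc, h1, mul_one, Matrix.transpose_transpose]

theorem sig_sig : σ * σ = 1 := MulEquiv.ext fun g => sig_eq hσ (by
  have h1 : (g⁻¹).1 * g.1 = 1 := congrArg Subtype.val (inv_mul_cancel g)
  change g.1.transpose * (σ g).1 = 1
  rw [hσ, ← Matrix.transpose_mul, h1, Matrix.transpose_one])

omit hσ in
theorem se (h : X33) : σ * c h = c (σ h) * σ := MulEquiv.ext fun x => by simp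

omit hσ in
theorem oe (g h : X33) : c g * σ * c h = c (g * σ h) * σ := by rw [mul_assoc, se, map_mul, mul_assoc]

omit hσ in
theorem eo (g h : X33) : c g * (c h * σ) = c (g * h) * σ := by rw [map_mul, mul_assoc]

theorem oo (g h : X33) : c g * σ * (c h * σ) = c (g * σ h) := by
  rw [← mul_assoc, oe, mul_assoc, sig_sig hσ, mul_one]

theorem sz : σ xz = xz := sig_eq hσ (by decide +kernel)
theorem sw : σ xw = xw := sig_eq hσ (by decide +kernel)
theorem su : σ xu = xu := sig_eq hσ (by decide +kernel)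
theorem sr : σ xr = xr := sig_eq hσ (by decide +kernel)
theorem sq : σ xq = xu * xq * xu * xz := sig_eq hσ (by decide +kernel)
theorem ss : σ xs = xu * xs * xu * xz := sig_eq hσ (by decide +kernel)

theorem rel : Rel p0 1 (c xz) (c (xu * xz) * σ) 1 (c xu) (c xq) (c xw) where
  zz := by rw [← map_mul, ← map_one c]; congr 1; decide +kernel
  tt := mul_one 1
  ss := mul_one 1
  ww := by rw [← map_mul, ← map_one c]; congr 1; decide +kernel
  uu := by rw [← map_mul]; congr 1; decide +kernel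
  qq := by rw [← map_mul]; congr 1; decide +kernel
  dd _ := by rw [oo hσ, map_mul σ, su hσ, sz hσ]; congr 1; decide +kernel
  d1 h := absurd h (by decide)
  s1 _ := rfl
  qu := by rw [← map_mul, ← map_mul, ← map_mul]; congr 1; decide +kernel
  tz := by rw [one_mul, mul_one]
  td := by rw [one_mul, mul_one]
  tu := by rw [one_mul, mul_one]
  tq := by rw [one_mul, mul_one]
  tw := by rw [one_mul, mul_one]
  st h := absurd h (by decide)
  sd := by rw [one_mul, mul_one]
  su := by rw [one_mul, mul_one]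
  sq := by rw [one_mul, mul_one]
  du := by rw [oe, eo, su hσ]; congr 2; decide +kernel
  dq := by rw [oe, eo, sq hσ]; congr 2; decide +kernel
  wd := by
    refine eq_inv_of_mul_eq_one_left ?_
    rw [eo, oe, oo hσ, map_mul σ, su hσ, sz hσ, sw hσ, ← map_one c]; congr 1; decide +kernel
  wu := by rw [← map_mul, ← map_mul, ← map_mul]; congr 1; decide +kernel
  wq := by rw [← map_mul, ← map_mul, ← map_mul]; congr 1; decide +kernel
  ws h := absurd h (by decide)

end Modelh

open Modelh in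
theorem model : ModS := by
  rintro mk ⟨hZ, hc, σ, hσ, hn, hall⟩
  obtain ⟨ψ, ht, hz, hd, hs, hu, hq, hw, -⟩ := mk _ p0 _ _ _ _ _ _ _ (rel hσ)
  have inj : Function.Injective (MulAut.conj (G := X33)) := by
    rw [← MonoidHom.ker_eq_bot_iff, eq_bot_iff, ← hZ]
    intro g hg
    refine mem_center_iff.2 fun h => ?_
    have h1 : MulAut.conj g h = h := by rw [MonoidHom.mem_ker.1 hg, MulAut.one_apply]
    rw [MulAut.conj_apply, mul_inv_eq_iff_eq_mul] at h1
    exact h1.symm
  have form : ∀ x : M p0, ψ x = cond x.d (ψ (md p0)) 1 * MulAut.conj (wd x.z x.i x.j x.k) := fun x => by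
    conv_lhs => rw [nf p0 x]
    simp only [wd, map_mul, Bool.apply_cond ψ, Bool.apply_cond (MulAut.conj (G := X33)), map_one, ht, hs, hz, hu, hq,
      hw, Bool.cond_self, one_mul, mul_assoc]
  have out : ∀ g : X33, MulAut.conj g * σ ∉ (MulAut.conj (G := X33)).range := fun g h =>
    hn ((mul_mem_cancel_left (MonoidHom.mem_range.2 ⟨g, rfl⟩)).1 h)
  have iI : ∀ a b, a ∉ (MulAut.conj (G := X33)).range → b ∉ (MulAut.conj (G := X33)).range →
      a * b ∈ (MulAut.conj (G := X33)).range := fun a b ha hb => by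
    obtain ⟨g, rfl | rfl⟩ := hall a
    · exact (ha ⟨g, rfl⟩).elim
    obtain ⟨h, rfl | rfl⟩ := hall b
    · exact (hb ⟨h, rfl⟩).elim
    exact ⟨_, (oo hσ g h).symm⟩
  have inn : ∀ x, ψ x ∈ (MulAut.conj (G := X33)).range ↔ x.d = false := fun x => by
    rw [form]
    cases x.d
    · exact ⟨fun _ => rfl, fun _ => ⟨_, (one_mul _).symm⟩⟩
    · refine ⟨fun h => ?_, fun h => absurd h (by decide)⟩
      rw [cond_true, hd, oe] at h
      exact (out _ h).elim
  have ker : ∀ x, ψ x = 1 ↔ x = 1 ∨ x = mt p0 := fun x => by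
    refine ⟨fun h => ?_, fun h => by rcases h with rfl | rfl; exacts [map_one _, ht]⟩
    have h1 := (inn x).1 (h ▸ one_mem _)
    rw [form, h1, cond_false, one_mul] at h
    exact wd_one x h1 (inj (h.trans (map_one _).symm))
  have hg : ψ (mg p0) = σ := by
    rw [mg, map_mul, hd, hu, oe, su hσ, show xu * xz * xu = 1 by decide +kernel, map_one, one_mul]
  have r0d : MulAut.conj xs * ψ (md p0) = ψ (md p0) * MulAut.conj xs := by
    rw [hd, oe, eo, ss hσ]; congr 2; decide +kernel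
  have czI : ∀ a ∈ (MulAut.conj (G := X33)).range, a * ψ (mz p0) = ψ (mz p0) * a →
      ∃ x : M p0, x.d = false ∧ ∃ r : Fin 3, a = ψ x * MulAut.conj xs ^ r.1 ∧
        (a * ψ (mw p0) = ψ (mw p0) * a → x.i = false ∧ x.j = false ∧ r = 0) := by
    rintro _ ⟨g, rfl⟩ h
    rw [hz, ← map_mul, ← map_mul] at h
    obtain ⟨z, i, j, k, r, rfl⟩ := cent_z (inj h)
    refine ⟨mk' p0 false z false false i j k, rfl, r, ?_, fun h1 => ?_⟩
    · rw [form, map_mul, map_pow]; exact congrArg (· * _) (one_mul _).symm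
    · rw [hw, ← map_mul, ← map_mul] at h1
      exact wd_comm z i j k r (inj h1)
  refine ⟨⟨ψ, MulAut.conj xr, MulAut.conj xs, ker, ⟨le_top, ?_, ?_⟩, ⟨?_⟩, iI, inn, ⟨_, rfl⟩, ⟨_, rfl⟩, ?_, ?_, ?_, ?_, ?_,
    ?_, ?_, mul_inv_eq_iff_eq_mul.2 r0d, ?_, ?_, fun a ha => ?_, fun a ha hb => ?_⟩⟩
  · rintro ⟨_, x, rfl⟩
    exact ⟨3, Subtype.ext ((map_pow ψ x _).symm.trans ((congrArg ψ (pow8 p0 x)).trans (map_one ψ)))⟩
  · have h1 : (MulAut.conj (G := X33)).range.index = 2 := index_eq_two_iff.2 ⟨σ, fun b => by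
      by_cases hb : b ∈ (MulAut.conj (G := X33)).range
      · exact Or.inr ⟨hb, fun h => hn ((mul_mem_cancel_left hb).1 h)⟩
      · exact Or.inl ⟨iI b σ hb hn, hb⟩⟩
    have h2 := (MulAut.conj (G := X33)).range.card_mul_index
    rw [h1, ← Nat.card_congr (MonoidHom.ofInjective inj).toEquiv, hc] at h2
    have h3 : Nat.card ψ.ker = 2 := by
      have : (ψ.ker : Set (M p0)) = {1, mt p0} := Set.ext fun x => ker x
      change (ψ.ker : Set (M p0)).ncard = 2
      rw [this, Set.ncard_pair (by decide)]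
    have h4 := ψ.ker.card_mul_index
    rw [h3, index_ker, card_M] at h4
    have h5 := ψ.range.card_mul_index
    rw [relIndex_top_right]
    rw [← h2, (by omega : Nat.card ψ.range = 32)] at h5
    omega
  · rintro _ ⟨g, rfl⟩ a
    exact ⟨a g, MulEquiv.ext fun x => by simp⟩
  · rw [mul_inv_eq_iff_eq_mul, hz, hw, ← map_mul, ← map_mul]; congr 1; decide +kernel
  · rw [mul_inv_eq_iff_eq_mul, map_mul, hz, hw, ← map_mul, ← map_mul, ← map_mul]; congr 1; decide +kernel
  · rw [mul_inv_eq_iff_eq_mul, hg, se, sr hσ]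
  · rw [← map_pow, ← map_one (MulAut.conj (G := X33))]; congr 1; decide +kernel
  · rw [mw', map_mul, hw, hu, ← map_mul, ← map_mul, ← map_pow, ← map_one (MulAut.conj (G := X33))]
    congr 1; decide +kernel
  · rw [mul_inv_eq_iff_eq_mul, hu, hq, ← map_mul, ← map_mul]; congr 1; decide +kernel
  · rw [mul_inv_eq_iff_eq_mul, map_mul, hu, hq, ← map_mul, ← map_mul, ← map_mul]; congr 1; decide +kernel
  · rw [← map_pow, ← map_one (MulAut.conj (G := X33))]; congr 1; decide +kernel
  · rw [mw', map_mul, hw, hu, ← map_mul, ← map_mul, ← map_pow, ← map_one (MulAut.conj (G := X33))]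
    congr 1; decide +kernel
  · by_cases hI : a ∈ (MulAut.conj (G := X33)).range
    · obtain ⟨x, -, r, e, -⟩ := czI a hI ha
      exact ⟨x, r, e⟩
    · have h1 : Commute (ψ (md p0)) (ψ (mz p0)) := Commute.map (by unfold Commute SemiconjBy; decide +kernel) ψ
      obtain ⟨x, -, r, e, -⟩ := czI _ (iI a _ hI fun h => absurd ((inn (md p0)).1 h) (by decide))
        (Commute.mul_left ha h1)
      refine ⟨x * (md p0)⁻¹, r, ?_⟩
      rw [map_mul, map_inv, mul_assoc, ← ((Commute.pow_left r0d r.1).inv_right).eq, ← mul_assoc, ← e,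
        mul_inv_cancel_right]
  · by_cases hI : a ∈ (MulAut.conj (G := X33)).range
    · obtain ⟨x, h1, r, e, h2⟩ := czI a hI ha
      obtain ⟨h3, h4, rfl⟩ := h2 hb
      exact ⟨x, h3.trans h1.symm, h4, e.trans (mul_one _)⟩
    · have h1 : Commute (ψ (mg p0)) (ψ (mz p0)) := Commute.map (by unfold Commute SemiconjBy; decide +kernel) ψ
      have h2 : Commute (ψ (mg p0)) (ψ (mw p0)) := Commute.map (by unfold Commute SemiconjBy; decide +kernel) ψ
      obtain ⟨x, h3, r, e, h4⟩ := czI _ (iI a _ hI (hg ▸ hn)) (Commute.mul_left ha h1)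
      obtain ⟨h5, h6, rfl⟩ := h4 (Commute.mul_left hb h2)
      have h7 := (by decide +kernel : ∀ x : M p0, x.d = false → x.i = false → x.j = false →
        (x * (mg p0)⁻¹).i = (x * (mg p0)⁻¹).d ∧ (x * (mg p0)⁻¹).j = false) x h3 h5 h6
      refine ⟨_, h7.1, h7.2, ?_⟩
      rw [map_mul, map_inv, eq_mul_inv_iff_mul_eq, e]
      exact mul_one _

end CL.H33
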