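/-
Project H33 (S3139): from the hypothesis to the local data.
-/
import Cfsg.Agent.H33.Asm
import Cfsg.Agent.H33.Mk
import Cfsg.Agent.H33.Aut
import Cfsg.Agent.H33.Model
import Cfsg.Agent.H33.Load
import Cfsg.Agent.H33.Pd0
import Cfsg.Agent.H33.S1a
import Cfsg.Agent.H33.S1b
import Cfsg.Agent.H33.Hs1
import Cfsg.Agent.H33.Hs2
import Cfsg.Agent.H33.Ne
import Cfsg.Agent.H33.St1
import Cfsg.Agent.H33.St2
import Cfsg.Agent.H33.Tl0
import Cfsg.Agent.H33.Tls
import Cfsg.Agent.H33.Tl4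
import Cfsg.Agent.H33.Tl8
import Cfsg.Agent.H33.Pb1
import Cfsg.Agent.H33.Pb2

set_option autoImplicit false
open Cfsg Subgroup CL.Even CL.Grp

namespace CL.H33

universe u v

theorem tl : TlS.{u} := tl_of tl0 tls tl4 tl8
theorem pb : PbS.{u} := pb_of pb1 pb2

theorem exists_hd {G : Type u} [Group G] [Finite G] (hF : IsSimpleGroup (generalizedFittingSubgroup G))
    (hF' : ¬ IsMulCommutative (generalizedFittingSubgroup G)) (t : G) (ht : orderOf t = 2)
    (L : Subgroup (centralizer ({t} : Set G))) (hL : IsPComponent 2 L) {F : Type v} [Field F] [Fintype F]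
    (hF3 : Fintype.card F = 3) (hLX : Nonempty ((L ⧸ oddCore L) ≃* Matrix.ProjectiveSpecialLinearGroup (Fin 3) F))
    (hc : ∀ P : Subgroup (centralizer ({t} : Set G)), IsPGroup 2 P →
      (∀ g ∈ P, ∀ l ∈ L, ∃ o ∈ oddCore L, g * (l : centralizer ({t} : Set G)) * g⁻¹ = l * o) → IsCyclic P) :
    ∃ S : HD G, S.p.ws = true := by
  obtain ⟨e⟩ := hLX
  obtain ⟨f⟩ := psl F hF3
  obtain ⟨m⟩ := model mk aut
  obtain ⟨D⟩ := load G hF hF' t ht L hL ⟨e.trans f⟩ hc m
  exact hd_of mk pd0 s1a s1b hs1 hs2 ne nm st1 st2 m D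

end CL.H33
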